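import Cfsg.Agent.N2.Cl.Quad.Refl

/-!
# N2 (S3519), classical socles: the class `pQuad` (helper60)

Orthogonal groups in symplectic groups of characteristic two.  An element of `Ω(Q)` without fixed vectors preserves only
one quadratic form with the given polar form.
-/

set_option autoImplicit false
set_option linter.unusedSectionVars false

namespace Cfsg.Agent.N2C

open Cfsg Cfsg.Agent.DS.Cl Cfsg.Agent.DS.Cl.Fwd Cfsg.Agent.SB.Cl Cfsg.Agent.SB.Tor Module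
open Cfsg.Agent.TH.Cl.Cases (L_eq_LR alt_Sp tv_Sp exists_perp_ns)

namespace Quad

variable {K V : Type} [Field K] [Finite K] [AddCommGroup V] [Module K V] [Finite V] {h : HF K V}

/-- a scalar of trace one -/
theorem Lmin_eq_of {c : K} (hc : c + h.τ c = 1) : Lmin h.EB = Lmax h.EB :=
  Lmin_eq_Lmax (h.smul_mem_center c) (h.ap_ext fun v => h.ext_right fun u => by
    rw [h.ap_add, h.add_right, h.b_star, ap_sc, ap_sc, h.smul_left, h.smul_right, h.ap_one, ← add_mul, add_comm, hc,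
      one_mul])

theorem Lmin_eq_U (hU : IsU h) : Lmin h.EB = Lmax h.EB := by
  obtain ⟨d, hd⟩ := hU.2
  have key : ∀ c : K, c + h.τ c ≠ 0 → Lmin h.EB = Lmax h.EB := fun c hc => Lmin_eq_of (c := c / (c + h.τ c)) (by
    rw [map_div₀, map_add, h.τ_τ, add_comm (h.τ c), ← add_div, div_self hc])
  by_cases h1 : d + h.τ d = 0
  · refine key 1 fun h2 => hd ?_
    rw [map_one] at h2
    linear_combination h1 - d * h2
  · exact key d h1

theorem two_eq_zero (hτ : ∀ c, h.τ c = c) (hL : Lmin h.EB ≠ Lmax h.EB) : (2 : K) = 0 := by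
  by_contra h2
  exact hL (Lmin_eq_of (c := 2⁻¹) (by rw [hτ, ← two_mul, mul_inv_cancel₀ h2]))

/-- the quadratic form of an element of trace one -/
theorem exists_Q {F : FR h.EB} (hS : IsSp h F) (h2 : (2 : K) = 0) {l : h.EB} (hl : l + star l = 1) :
    ∃ Q : QuadraticForm K V, IsO h ⟨l, Lmin _, hl, Or.inl rfl⟩ Q := by
  let B : V →ₗ[K] V →ₗ[K] K := LinearMap.mk₂ K h.b h.add_left h.smul_left h.add_right fun c u v => by
    rw [h.smul_right, hS.1, smul_eq_mul]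
  refine ⟨LinearMap.BilinMap.toQuadraticMap (B.compl₂ (h.ap l)), hS.1, fun u v => ?_, rfl, fun _ => rfl⟩
  rw [LinearMap.BilinMap.polar_toQuadraticMap]
  change _ = h.b u (h.ap l v) + h.b v (h.ap l u)
  rw [← h.star_b l v, alt_Sp hS.2.1 _ u, neg_eq_of_add_eq_zero_left (a := h.b u (h.ap (star l) v))
    (by rw [← two_mul, h2, zero_mul]), ← h.add_right, ← h.ap_add, hl, h.ap_one]

variable {F F' : FR h.EB} {Q : QuadraticForm K V} (hO : IsO h F' Q)
include hO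

theorem exists_ns (h3 : 3 ≤ finrank K V) (hb : ∀ v, h.b v v = 0) {y : V} (hy : y ≠ 0) : ∃ w, Q w ≠ 0 ∧ h.b w y ≠ 0 := by
  obtain ⟨x, hx⟩ := h.exists_ne hy
  by_cases h1 : Q x = 0
  · obtain ⟨z, h4, h5, h6⟩ := exists_perp_ns hO h3 hb hx
    exact ⟨z + x, by rwa [O_add hO, h1, h5, add_zero, add_zero], by rwa [h.add_left, h6, zero_add]⟩
  · exact ⟨x, h1, hx⟩

/-- an element of `Ω(Q)` without fixed vectors -/
theorem exists_fpf (h2 : (2 : K) = 0) (h3 : 3 ≤ finrank K V) (he : finrank K V % 2 = 0) :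
    ∃ a ∈ F'.Iso, cj h.EB a ∈ F'.S ∧ ∀ x, h.ap a x = x → x = 0 := by
  have : Module.Finite K V := Module.Finite.of_finite
  obtain ⟨a, h4, h5, -, -, h6, h7⟩ := descent hO (v := 0) (U := ⊤) (fun y _ hy => by
      obtain ⟨w, a1, a2⟩ := exists_ns hO h3 (TH.Cl.Cases.b_self_two hO h2) (y := y) (by simpa using hy 0)
      exact ⟨w, a1, h.zero_right w, a2⟩) h2 (finrank K V) 1 (one_mem _) (by rw [map_one]; exact one_mem _) le_top
    (zero_mem _) (by rw [fixS_one, finrank_top])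
  rw [Submodule.span_zero_singleton, finrank_bot] at h6
  have h8 : fixS a = ⊥ := Submodule.finrank_eq_zero.1 (by omega)
  exact ⟨a, h4, h5, fun x hx => (Submodule.eq_bot_iff _).1 h8 x (mem_fixS.2 hx)⟩

/-- the symplectic group does not preserve the quadratic form -/
theorem not_le (hS : IsSp h F) (h3 : 3 ≤ finrank K V) : ¬ F.S ≤ F'.Aut := fun hle => by
  have : Nontrivial V := Module.nontrivial_of_finrank_pos (R := K) (by omega)
  obtain ⟨y, hy⟩ := exists_ne (0 : V)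
  obtain ⟨c, hc, -⟩ := exists_ns hO h3 hS.2.1 hy
  obtain ⟨r, hr, hr'⟩ := exists_reflU hO hc
  have key : ∀ a, h.b c a ≠ 0 → Q a = 1 := fun a ha => by
    obtain ⟨g, hg, hg'⟩ := tv_Sp hS 1 a
    have h1 : cj h.EB (g * r * g⁻¹ * r⁻¹) ∈ F'.Aut :=
      hle ⟨_, Subgroup.commutator_mem_commutator hg (mem_Iso_max hS.2.2 hr.1), rfl⟩
    have h4 : g * r * g⁻¹ * r⁻¹ ∈ F.Iso :=
      mul_mem (mul_mem (mul_mem hg (mem_Iso_max hS.2.2 hr.1)) (inv_mem hg)) (inv_mem (mem_Iso_max hS.2.2 hr.1))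
    have h5 : g * r * g⁻¹ ∈ F'.Iso := (Subgroup.mul_mem_cancel_right _ (inv_mem hr)).1 (FR.mem_Iso_of_cj h4.1 h1)
    obtain ⟨d, hd⟩ : ∃ d, d = h.ap g c := ⟨_, rfl⟩
    obtain ⟨x, hx⟩ := h.exists_ne (v := d) fun h0 => hc (by rw [← ap_inv_ap h g c, ← hd, h0, map_zero, map_zero])
    have h6 := (mem_Iso_O hO _).1 h5 x
    rw [Units.val_mul, Units.val_mul, hr', qr_conj h hg.1, ← hd, ap_qr, sub_eq_add_neg, ← neg_smul, O_add hO,
      QuadraticMap.map_smul, h.smul_right, hO.1, smul_eq_mul] at h6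
    have h7 : Q d = Q c := by
      field_simp at h6
      have h8 : h.b x d ^ 2 * (Q d - Q c) = 0 := by linear_combination h6
      exact sub_eq_zero.1 ((mul_eq_zero.1 h8).resolve_left (pow_ne_zero 2 hx))
    rw [hd, hg', ap_qr, sub_eq_add_neg, ← neg_smul, O_add hO, QuadraticMap.map_smul, h.smul_right, hO.1,
      smul_eq_mul] at h7
    have h8 : h.b c a ^ 2 * (Q a - 1) = 0 := by linear_combination h7
    exact sub_eq_zero.1 ((mul_eq_zero.1 h8).resolve_left (pow_ne_zero 2 ha))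
  obtain ⟨a, ha⟩ := h.exists_ne (v := c) fun h0 => hc (by rw [h0, map_zero])
  obtain ⟨z, h4, h5, h6⟩ := exists_perp_ns hO h3 hS.2.1 ha
  have h7 := key (z + a) (by rw [h.add_right, O_symm hO c z, h6, zero_add]; exact h.ne_swap ha)
  rw [O_add hO, key a (h.ne_swap ha), h5, add_zero, add_eq_right] at h7
  exact h4 h7

/-- an element without fixed vectors preserves only one quadratic form -/
theorem mem_of_fpf (h2 : (2 : K) = 0) {a g : h.EBˣ} (ha : a ∈ F'.Iso) (h0 : ∀ x, h.ap a x = x → x = 0)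
    (hg : (g : h.EB) * star (g : h.EB) = 1) (h1 : g⁻¹ * a * g ∈ F'.Iso) : g ∈ F'.Iso := by
  have : Module.Finite K V := Module.Finite.of_finite
  have hs : Function.Surjective (h.ap a + 1 : End K V) := LinearMap.surjective_of_injective (by
    refine (injective_iff_map_eq_zero _).2 fun x hx => h0 x ?_
    rw [LinearMap.add_apply, End.one_apply] at hx
    linear_combination (norm := module) hx - h2 • x)
  have h3 : ∀ x, Q (h.ap (g⁻¹ : h.EBˣ) (h.ap a x)) = Q (h.ap (g⁻¹ : h.EBˣ) x) := fun x => by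
    have h4 := (mem_Iso_O hO _).1 h1 (h.ap (g⁻¹ : h.EBˣ) x)
    rwa [Units.val_mul, Units.val_mul, h.ap_mul, h.ap_mul, ap_ap_inv] at h4
  refine inv_mem_iff.1 ((mem_Iso_O hO _).2 fun y => ?_)
  obtain ⟨x, rfl⟩ := hs y
  rw [LinearMap.add_apply, End.one_apply, map_add, O_add hO, O_add hO, h3, (mem_Iso_O hO _).1 ha,
    ← (h.unit_iff g).1 hg, ap_ap_inv, ap_ap_inv, ← two_mul, ← two_mul, h2, zero_mul, zero_mul]

omit hO in
/-- symplectic groups of dimension at least four -/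
theorem quad_Sp (hS : IsSp h F) (h3 : 3 ≤ finrank K V) (he : finrank K V % 2 = 0) {H : Subgroup (RingAut h.EB)} {p : ℕ}
    (c : Ctx F H p) (hL : F.L ≠ Lmin h.EB) {l : h.EB} (hl : l + star l = 1) (hH : ∀ γ ∈ H, γ l - l ∈ Lmin h.EB) :
    Gd F H := by
  have h2 := two_eq_zero hS.1 fun h1 => hL (hS.2.2.trans h1.symm)
  obtain ⟨Q, hO⟩ := exists_Q hS h2 hl
  obtain ⟨F', hF'⟩ : ∃ F' : FR h.EB, F' = ⟨l, Lmin _, hl, Or.inl rfl⟩ := ⟨_, rfl⟩
  have h1 : H ≤ F'.Aut := fun γ hγ => ⟨c.le_SAut hγ, by rw [hF']; exact hH γ hγ⟩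
  rw [← hF'] at hO
  have h4 := fun s => c.max' h1 (not_le hO hS h3) (s := s)
  obtain ⟨a, ha, ha', h0⟩ := exists_fpf hO h2 h3 he
  have h5 : F'.Iso ≤ F.Iso := fun u hu => mem_Iso_max hS.2.2 hu.1
  have h6 : cj h.EB a ∈ F.S := Subgroup.map_mono (Subgroup.commutator_mono h5 h5) ha'
  have := SB.Cl.finiteRingAut (A := h.EB)
  refine N2.good_of_one (a := ⟨_, h6⟩) (h4 _ h6 (FR.cj_mem_Aut ha)) (N2.fx_le_one fun t ht => ?_)
  obtain ⟨g, hg, hgt⟩ := F.S_le_PI t.2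
  have h7 : cj h.EB (g⁻¹ * a * g) ∈ F'.Aut := by
    rw [map_mul, map_mul, map_inv, hgt]
    exact h1 ht
  exact h4 t.1 t.2 (hgt ▸ FR.cj_mem_Aut (mem_of_fpf hO h2 ha h0 hg.1
    (FR.mem_Iso_of_cj (mul_mem (mul_mem (inv_mem hg) (h5 ha)) hg).1 h7)))

end Quad

open Quad in
/-- **[Quad]** -/
theorem quad : On pQuad :=
  ⟨fun _ _ _ _ F _ _ _ _ _ h => (h.2.1 ((L_eq_LR F).trans (L_eq_LR ⟨F.l, Lmin _, F.l_add, Or.inl rfl⟩).symm)).elim,
    fun _ _ _ _ _ _ _ _ _ _ _ _ k _ _ h => (h.2.1 (k.L.trans (Lmin_eq_U k.u).symm)).elim,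
    fun _ _ _ _ _ _ _ _ _ _ _ _ k _ c h => by
      obtain ⟨-, h1, l, h2, h3⟩ := h
      exact quad_Sp k.sp (by have := k.dim; have := k.two; omega) (by have := k.dim; omega) c h1 h2 h3,
    fun _ _ _ _ _ _ _ _ _ _ _ _ k _ h => (h.2.1 k.o.2.2.1).elim⟩

end Cfsg.Agent.N2C
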