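import Cfsg.Agent.N2.Cl.Defs
import Cfsg.Agent.TH.Cl.Cases.NS

/-!
# N2 (S3519), classical socles: products of reflections with small fixed space (helper60)
-/

set_option autoImplicit false
set_option linter.unusedSectionVars false

namespace Cfsg.Agent.N2C.Quad

open Cfsg Cfsg.Agent.DS.Cl Cfsg.Agent.DS.Cl.Fwd Cfsg.Agent.SB.Cl Cfsg.Agent.SB.Tor Module
open Cfsg.Agent.TH.Cl.Cases (refl_mul_mem)

variable {K V : Type} [Field K] [Finite K] [AddCommGroup V] [Module K V] [Finite V] {h : HF K V}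

/-- the fixed space -/
def fixS (u : h.EBˣ) : Submodule K V := LinearMap.ker (h.ap u - 1)

theorem mem_fixS {u : h.EBˣ} {x : V} : x ∈ fixS u ↔ h.ap u x = x := by
  rw [fixS, LinearMap.mem_ker, LinearMap.sub_apply, End.one_apply, sub_eq_zero]

theorem fixS_one : fixS (1 : h.EBˣ) = ⊤ := eq_top_iff.2 fun x _ => mem_fixS.2 (h.ap_one x)

theorem finrank_inf_ker {U : Submodule K V} {f : V →ₗ[K] K} {y : V} (hy : y ∈ U) (hf : f y ≠ 0) :
    finrank K ↥(U ⊓ LinearMap.ker f) + 1 = finrank K U := by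
  have : Module.Finite K V := Module.Finite.of_finite
  have h1 := Module.Dual.finrank_ker_add_one_of_ne_zero (f := f.domRestrict U)
    fun h0 => hf (LinearMap.congr_fun h0 ⟨y, hy⟩)
  rwa [LinearMap.ker_domRestrict, ← Submodule.finrank_map_subtype_eq, Submodule.map_comap_subtype] at h1

/-- a quasi-reflection whose centre is not orthogonal to the fixed space cuts the fixed space -/
theorem fixS_mul {u r : h.EBˣ} (hu : (u : h.EB) * star (u : h.EB) = 1) {κ : K} (hκ : κ ≠ 0) {w y : V}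
    (hr : (r : h.EB) = qr h κ w) (hy : y ∈ fixS u) (hwy : h.b w y ≠ 0) :
    fixS (r * u) = fixS u ⊓ LinearMap.ker (h.lin w) := by
  ext x
  rw [Submodule.mem_inf, mem_fixS, mem_fixS, Units.val_mul, h.ap_mul, hr, ap_qr, LinearMap.mem_ker]
  change _ ↔ _ ∧ h.b x w = 0
  constructor
  · intro h1
    have h2 : h.b (h.ap u x) y = h.b x y := by
      rw [← (h.unit_iff u).1 hu x y, mem_fixS.1 hy]
    have h3 := congrArg (fun z => h.b z y) h1
    simp only [h.sub_left, h.smul_left, h2, sub_eq_self] at h3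
    have h4 : h.b (h.ap u x) w = 0 :=
      (mul_eq_zero.1 ((mul_eq_zero.1 h3).resolve_right hwy)).resolve_left hκ
    rw [h4, mul_zero, zero_smul, sub_zero] at h1
    exact ⟨h1, by rwa [h1] at h4⟩
  · rintro ⟨h1, h2⟩
    rw [h1, h2, mul_zero, zero_smul, sub_zero]

variable {F : FR h.EB} {Q : QuadraticForm K V} (hO : IsO h F Q) {v : V} {U : Submodule K V}
  (hw : ∀ y ∈ U, (∀ c : K, y ≠ c • v) → ∃ w, Q w ≠ 0 ∧ h.b w v = 0 ∧ h.b w y ≠ 0)
include hO hw

theorem step {u : h.EBˣ} (hu : u ∈ F.Iso) (hU : fixS u ≤ U) (hv : v ∈ fixS u)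
    (hd : finrank K (Submodule.span K {v}) < finrank K (fixS u)) :
    ∃ w, Q w ≠ 0 ∧ ∃ r ∈ F.Iso, (r : h.EB) = qr h (Q w)⁻¹ w ∧ fixS (r * u) ≤ U ∧ v ∈ fixS (r * u) ∧
      finrank K (fixS (r * u)) + 1 = finrank K (fixS u) := by
  have : Module.Finite K V := Module.Finite.of_finite
  obtain ⟨y, hy, hy'⟩ : ∃ y ∈ fixS u, y ∉ Submodule.span K {v} := by
    by_contra hcon
    push Not at hcon
    exact absurd (Submodule.finrank_mono hcon) (not_le.2 hd)
  obtain ⟨w, h1, h2, h3⟩ := hw y (hU hy) fun c hc => hy' (Submodule.mem_span_singleton.2 ⟨c, hc.symm⟩)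
  obtain ⟨r, hr, hr'⟩ := exists_reflU hO h1
  have h4 := fixS_mul hu.1 (inv_ne_zero h1) hr' hy h3
  refine ⟨w, h1, r, hr, hr', h4.le.trans (inf_le_left.trans hU), ?_, ?_⟩
  · rw [h4]
    exact ⟨hv, (O_symm hO v w).trans h2⟩
  · rw [h4]
    exact finrank_inf_ker hy (h.ne_swap h3)

/-- **descent**: two reflections at a time -/
theorem descent (h2 : (2 : K) = 0) (d : ℕ) : ∀ u ∈ F.Iso, cj h.EB u ∈ F.S → fixS u ≤ U → v ∈ fixS u →
    finrank K (fixS u) = d → ∃ a ∈ F.Iso, cj h.EB a ∈ F.S ∧ fixS a ≤ U ∧ v ∈ fixS a ∧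
      finrank K (fixS a) ≤ finrank K (Submodule.span K {v}) + 1 ∧ finrank K (fixS a) % 2 = d % 2 := by
  induction d using Nat.strong_induction_on with
  | _ d ih =>
    intro u hu hS hU hv hd
    by_cases h1 : d ≤ finrank K (Submodule.span K {v}) + 1
    · exact ⟨u, hu, hS, hU, hv, hd ▸ h1, by rw [hd]⟩
    obtain ⟨w, hw1, r, hr, hr', a1, a2, a3⟩ := step hO hw hu hU hv (by omega)
    obtain ⟨w', hw2, s, hs, hs', b1, b2, b3⟩ := step hO hw (mul_mem hr hu) a1 a2 (by omega)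
    obtain ⟨a, c1, c2, c3, c4, c5, c6⟩ := ih (d - 2) (by omega) _ (mul_mem hs (mul_mem hr hu)) (by
      rw [← mul_assoc, map_mul]
      exact mul_mem (refl_mul_mem hO h2 hw2 hw1 hr hs' hr') hS) b1 b2 (by omega)
    exact ⟨a, c1, c2, c3, c4, c5, by omega⟩

end Cfsg.Agent.N2C.Quad
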